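import Groth.Prelude.Def_W4sga6xxiiiPolyMap
import Mathlib.Algebra.Group.ForwardDiff
import Mathlib.Algebra.Polynomial.Roots
import Mathlib.RingTheory.Polynomial.Pochhammer
import Mathlib.Tactic

/-!
Integer valued polynomial maps on divisible-by-torsion groups are constant.
-/

set_option autoImplicit false

universe u

open Polynomial

namespace Groth.Agent.PolyMapLib

theorem exists_poly_line {G : Type u} [AddCommGroup G] {f : G → ℚ} (hf : W4sga6xxiii.IsPolyMap f) (x₀ z : G) :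
    ∃ P : ℚ[X], ∀ n : ℤ, f (x₀ + n • z) = P.eval (n : ℚ) := by
  obtain ⟨m, y, -, hy⟩ := hf 2 ![x₀, z]
  refine ⟨∑ k, C (((Ring.choose (1 : ℤ) (k 0 : ℕ) : ℤ) : ℚ) * ((Nat.factorial (k 1 : ℕ) : ℚ)⁻¹) * y k) *
    descPochhammer ℚ (k 1 : ℕ), fun n => ?_⟩
  have h := hy ![1, n]
  simp only [Fin.sum_univ_two, Matrix.cons_val_zero, Matrix.cons_val_one, one_smul] at h
  rw [h, eval_finset_sum]
  refine Finset.sum_congr rfl fun k _ => ?_
  rw [eval_mul, eval_C, Fin.prod_univ_two]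
  simp only [Matrix.cons_val_zero, Matrix.cons_val_one, zsmul_eq_mul]
  have e : (descPochhammer ℚ (k 1 : ℕ)).eval (n : ℚ) =
      (Nat.factorial (k 1 : ℕ) : ℚ) * ((Ring.choose n (k 1 : ℕ) : ℤ) : ℚ) := by
    have h := congrArg (fun a : ℤ => (a : ℚ)) (Ring.descPochhammer_eq_factorial_smul_choose n (k 1 : ℕ))
    simp only [nsmul_eq_mul, Int.cast_mul, Int.cast_natCast] at h
    rw [← h, ← eval_eq_smeval, ← descPochhammer_map (Int.castRingHom ℚ), eval_map]
    simp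
  rw [e, Int.cast_mul]
  field_simp

theorem mul_choose_dvd {d j : ℕ} (hj : 0 < j) (hd : j ≤ d) (m : ℕ) : m ∣ Nat.factorial d * m.choose j := by
  obtain ⟨c, hc⟩ := Nat.dvd_factorial hj hd
  obtain ⟨i, rfl⟩ := Nat.exists_eq_succ_of_ne_zero hj.ne'
  cases m with
  | zero => simp
  | succ m =>
    refine ⟨c * m.choose i, ?_⟩
    have := Nat.add_one_mul_choose_eq m i
    rw [hc]
    simp only [Nat.succ_eq_add_one] at *
    linear_combination c * this.symm

/-- For an integer valued polynomial, `d!` times a difference of values is divisible by the step. -/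
theorem dvd_sub_of_intValued (P : ℚ[X]) (hP : ∀ n : ℤ, ∃ z : ℤ, P.eval (n : ℚ) = z) (m : ℕ) :
    ∃ z : ℤ, (Nat.factorial P.natDegree : ℚ) * (P.eval (m : ℚ) - P.eval 0) = (m : ℚ) * z := by
  choose g hg using hP
  have key := shift_eq_sum_fwdDiff_iter (1 : ℤ) g m 0
  have hcast : ∀ j : ℕ, ((((fwdDiff (1 : ℤ))^[j] g) 0 : ℤ) : ℚ) = ((fwdDiff (1 : ℚ))^[j] P.eval) 0 := by
    intro j
    rw [fwdDiff_iter_eq_sum_shift, fwdDiff_iter_eq_sum_shift, Int.cast_sum]
    refine Finset.sum_congr rfl fun i _ => ?_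
    simp [← hg]
  have hz : ∀ j, P.natDegree < j → ((fwdDiff (1 : ℤ))^[j] g) 0 = 0 := fun j hj => by
    have := hcast j
    rw [Polynomial.fwdDiff_iter_eq_zero_of_degree_lt hj, Pi.zero_apply] at this
    exact_mod_cast this
  choose c hc using fun j : Fin (P.natDegree + 1) => fun h : 0 < (j : ℕ) =>
    mul_choose_dvd (d := P.natDegree) h (Nat.lt_succ_iff.1 j.2) m
  refine ⟨∑ j : Fin (P.natDegree + 1), if h : 0 < (j : ℕ) then (c j h : ℤ) * ((fwdDiff (1 : ℤ))^[(j : ℕ)] g) 0 else 0, ?_⟩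
  have hm : P.eval (m : ℚ) = ((g m : ℤ) : ℚ) := by rw [← hg]; simp
  have h0 : P.eval 0 = ((g 0 : ℤ) : ℚ) := by rw [← hg]; simp
  rw [hm, h0, ← Int.cast_sub, ← Int.cast_natCast (R := ℚ), ← Int.cast_mul, ← Int.cast_natCast (R := ℚ) m, ← Int.cast_mul]
  congr 1
  have key' : g m = ∑ j : Fin (P.natDegree + 1), (m.choose (j : ℕ) : ℤ) * ((fwdDiff (1 : ℤ))^[(j : ℕ)] g) 0 := by
    simp only [zero_add, nsmul_eq_mul, mul_one] at key
    rw [key, Fin.sum_univ_eq_sum_range (fun j : ℕ => (m.choose j : ℤ) * ((fwdDiff (1 : ℤ))^[j] g) 0)]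
    rcases le_total (m + 1) (P.natDegree + 1) with h | h
    · exact Finset.sum_subset (Finset.range_subset_range.2 h) fun j _ hj => by
        simp only [Finset.mem_range, not_lt] at hj
        simp [Nat.choose_eq_zero_of_lt hj]
    · exact (Finset.sum_subset (Finset.range_subset_range.2 h) fun j _ hj => by
        simp only [Finset.mem_range, not_lt] at hj
        simp [hz j hj]).symm
  rw [key', Fin.sum_univ_succ, Fin.sum_univ_succ]
  simp only [dif_neg (show ¬ 0 < ((0 : Fin (P.natDegree + 1)) : ℕ) from lt_irrefl 0), zero_add]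
  simp only [Fin.val_zero, Nat.choose_zero_right, Nat.cast_one, one_mul, Function.iterate_zero, id_eq,
    add_sub_cancel_left, Fin.val_succ]
  rw [Finset.mul_sum, Finset.mul_sum]
  refine Finset.sum_congr rfl fun j _ => ?_
  rw [dif_pos (Nat.succ_pos _)]
  have := congrArg (fun a : ℕ => (a : ℤ)) (hc j.succ (Nat.succ_pos _))
  simp only [Fin.val_succ, Nat.cast_mul] at this
  rw [← mul_assoc, this, mul_assoc]

theorem eq_of_divisible {G : Type u} [AddCommGroup G] (G' : AddSubgroup G) {p : ℕ} (hp : p.Prime)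
    (hdiv : ∀ x ∈ G', ∃ y ∈ G', p • y = x) {f : G → ℚ} (hf : W4sga6xxiii.IsPolyMap f)
    (hint : ∀ x, ∃ z : ℤ, f x = z) (x₀ : G) {z : G} (hz : z ∈ G') : f (x₀ + z) = f x₀ := by
  obtain ⟨P, hP⟩ := exists_poly_line hf x₀ z
  have hk : ∀ k : ℕ, ∃ y ∈ G', (p ^ k : ℕ) • y = z := by
    intro k
    induction k with
    | zero => exact ⟨z, hz, by simp⟩
    | succ k ih =>
      obtain ⟨y, hy, hy'⟩ := ih
      obtain ⟨w, hw, hw'⟩ := hdiv y hy
      exact ⟨w, hw, by rw [pow_succ, mul_nsmul', hw', hy']⟩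
  obtain ⟨Z₀, hZ₀⟩ : ∃ Z₀ : ℤ, (Nat.factorial P.natDegree : ℚ) * (f (x₀ + z) - f x₀) = Z₀ := by
    obtain ⟨a, ha⟩ := hint (x₀ + z)
    obtain ⟨b, hb⟩ := hint x₀
    exact ⟨(Nat.factorial P.natDegree : ℤ) * (a - b), by rw [ha, hb]; push_cast; ring⟩
  have hdvd : ∀ k : ℕ, (p : ℤ) ^ k ∣ Z₀ := by
    intro k
    obtain ⟨y, -, hy⟩ := hk k
    obtain ⟨Q, hQ⟩ := exists_poly_line hf x₀ y
    have hpk : ((p ^ k : ℕ) : ℚ) ≠ 0 := Nat.cast_ne_zero.2 (pow_ne_zero _ hp.ne_zero)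
    have hPQ : P = Q.comp (C ((p ^ k : ℕ) : ℚ) * X) := by
      refine Polynomial.eq_of_infinite_eval_eq _ _ (Set.Infinite.mono ?_ (Set.infinite_range_of_injective (Int.cast_injective (α := ℚ))))
      rintro _ ⟨n, rfl⟩
      change P.eval (n : ℚ) = _
      rw [eval_comp, eval_mul, eval_C, eval_X, ← hP, ← hy]
      have := hQ (((p ^ k : ℕ) : ℤ) * n)
      rw [Int.cast_mul, Int.cast_natCast] at this
      rw [← this, mul_comm, mul_zsmul, natCast_zsmul]
    have hdeg : Q.natDegree = P.natDegree := by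
      rw [hPQ, natDegree_comp, natDegree_C_mul hpk, natDegree_X, mul_one]
    obtain ⟨c, hc⟩ := dvd_sub_of_intValued Q (fun n => by
      obtain ⟨a, ha⟩ := hint (x₀ + n • y)
      exact ⟨a, by rw [← hQ, ha]⟩) (p ^ k)
    have e₁ := hQ ((p ^ k : ℕ) : ℤ)
    have e₀ := hQ 0
    rw [natCast_zsmul, hy, Int.cast_natCast] at e₁
    rw [zero_smul, add_zero, Int.cast_zero] at e₀
    rw [← e₁, ← e₀, hdeg, hZ₀] at hc
    refine ⟨c, ?_⟩
    exact_mod_cast hc
  have hZ : Z₀ = 0 := by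
    by_contra h
    exact (Int.finiteMultiplicity_iff.2 ⟨by simpa using hp.ne_one, h⟩).not_pow_dvd_of_multiplicity_lt (Nat.lt_succ_self _) (hdvd _)
  rw [hZ, Int.cast_zero, mul_eq_zero] at hZ₀
  exact sub_eq_zero.1 (hZ₀.resolve_left (Nat.cast_ne_zero.2 (Nat.factorial_ne_zero _)))

theorem const_of_divisible {G : Type u} [AddCommGroup G] (G' : AddSubgroup G) {p : ℕ} (hp : p.Prime)
    (hdiv : ∀ x ∈ G', ∃ y ∈ G', p • y = x) (htor : ∀ x : G, ∃ n : ℤ, n ≠ 0 ∧ n • x ∈ G') {f : G → ℚ}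
    (hf : W4sga6xxiii.IsPolyMap f) (hint : ∀ x, ∃ z : ℤ, f x = z) (x : G) : f x = f 0 := by
  obtain ⟨n, hn, hnx⟩ := htor x
  obtain ⟨P, hP⟩ := exists_poly_line hf 0 x
  have h : P = C (f 0) := by
    refine Polynomial.eq_of_infinite_eval_eq _ _ (Set.Infinite.mono ?_
      (Set.infinite_range_of_injective (f := fun m : ℤ => ((m * n : ℤ) : ℚ))
        fun a b h => mul_right_cancel₀ hn (Int.cast_injective h)))
    rintro _ ⟨m, rfl⟩
    change P.eval ((m * n : ℤ) : ℚ) = _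
    rw [eval_C, ← hP, eq_of_divisible G' hp hdiv hf hint 0 (by rw [mul_zsmul]; exact G'.zsmul_mem hnx m)]
  have := hP 1
  rw [h, eval_C, zero_add, one_zsmul] at this
  exact this

end Groth.Agent.PolyMapLib
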